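import Mathlib
import Groth.Agent.Lib.Helper7.IntDim

/-!
# Counting ring homomorphisms from a finite algebra over a polynomial ring to a finite field
(helper19)
-/

set_option autoImplicit false

namespace Groth.Agent.Helper19.PtCount

open MvPolynomial

universe w

section Key

variable {R A F : Type*} [CommRing R] [CommRing A] [Algebra R A] [Field F]

theorem comp_eq_eval₂Hom {d : ℕ} (g : MvPolynomial (Fin d) R →ₐ[R] A) (φ : R →+* F)
    (ψ : A →+* F) (hψ : ψ.comp (algebraMap R A) = φ) :
    ψ.comp (g : MvPolynomial (Fin d) R →+* A) =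
      MvPolynomial.eval₂Hom φ (fun i => ψ (g (X i))) := by
  apply MvPolynomial.ringHom_ext
  · intro r
    have h1 : g (C r) = algebraMap R A r := by
      rw [← MvPolynomial.algebraMap_eq, g.commutes]
    simp only [RingHom.comp_apply, RingHom.coe_coe, eval₂Hom_C, h1]
    rw [← hψ]; rfl
  · intro i
    simp

theorem card_fiber_le {d : ℕ} (g : MvPolynomial (Fin d) R →ₐ[R] A) (s : Finset A)
    (hs : ∀ a : A, ∃ c : A → MvPolynomial (Fin d) R, a = ∑ i ∈ s, g (c i) * i)
    (χ : MvPolynomial (Fin d) R →+* F) (T : Finset (A →+* F))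
    (hT : ∀ ψ ∈ T, ψ.comp (g : MvPolynomial (Fin d) R →+* A) = χ) : T.card ≤ s.card := by
  classical
  have hli : LinearIndependent F (fun ψ : T => (fun i : s => (ψ : A →+* F) i)) := by
    rw [Fintype.linearIndependent_iff]
    intro c hc ψ₀
    have hfun : ∑ ψ : T, c ψ • (((ψ : A →+* F) : A →* F) : A → F) = 0 := by
      funext a
      obtain ⟨b, hb⟩ := hs a
      simp only [Finset.sum_apply, Pi.smul_apply, smul_eq_mul, Pi.zero_apply]
      have h1 : ∀ ψ : T, (ψ : A →+* F) a = ∑ i ∈ s, χ (b i) * (ψ : A →+* F) i := by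
        intro ψ
        conv_lhs => rw [hb]
        rw [map_sum]
        refine Finset.sum_congr rfl fun i _ => ?_
        rw [map_mul, ← hT ψ ψ.2]; rfl
      have h1' : ∀ ψ : T, (((ψ : A →+* F) : A →* F) : A → F) a
          = ∑ i ∈ s, χ (b i) * (ψ : A →+* F) i := h1
      simp_rw [h1', Finset.mul_sum]
      rw [Finset.sum_comm]
      refine Finset.sum_eq_zero fun i hi => ?_
      have := congrFun hc ⟨i, hi⟩
      simp only [Finset.sum_apply, Pi.smul_apply, smul_eq_mul, Pi.zero_apply] at this
      calc ∑ ψ : T, c ψ * (χ (b i) * (ψ : A →+* F) i)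
          = χ (b i) * ∑ ψ : T, c ψ * (ψ : A →+* F) i := by
            rw [Finset.mul_sum]; refine Finset.sum_congr rfl fun ψ _ => by ring
        _ = 0 := by rw [this, mul_zero]
    have hded := linearIndependent_monoidHom A F
    have hinj : Function.Injective (fun ψ : T => ((ψ : A →+* F) : A →* F)) := by
      intro ψ₁ ψ₂ h
      apply Subtype.ext
      apply RingHom.ext
      intro a
      exact DFunLike.congr_fun h a
    have hli' := hded.comp _ hinj
    rw [Fintype.linearIndependent_iff] at hli'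
    exact hli' c hfun ψ₀
  have := hli.fintype_card_le_finrank
  simpa using this

theorem card_ext_le [Finite F] (φ : R →+* F) {d : ℕ} (g : MvPolynomial (Fin d) R →ₐ[R] A)
    (s : Finset A)
    (hs : ∀ a : A, ∃ c : A → MvPolynomial (Fin d) R, a = ∑ i ∈ s, g (c i) * i) :
    Finite {ψ : A →+* F // ψ.comp (algebraMap R A) = φ} ∧
      Nat.card {ψ : A →+* F // ψ.comp (algebraMap R A) = φ} ≤ s.card * Nat.card F ^ d := by
  classical
  let ev : {ψ : A →+* F // ψ.comp (algebraMap R A) = φ} → (Fin d → F) :=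
    fun ψ i => ψ.1 (g (X i))
  have hχ : ∀ ψ : {ψ : A →+* F // ψ.comp (algebraMap R A) = φ},
      ψ.1.comp (g : MvPolynomial (Fin d) R →+* A) = eval₂Hom φ (ev ψ) :=
    fun ψ => comp_eq_eval₂Hom g φ ψ.1 ψ.2
  have hfin : Finite {ψ : A →+* F // ψ.comp (algebraMap R A) = φ} := by
    let Φ : {ψ : A →+* F // ψ.comp (algebraMap R A) = φ} → (Fin d → F) × (s → F) :=
      fun ψ => (ev ψ, fun i => ψ.1 i)
    apply Finite.of_injective Φ
    intro ψ₁ ψ₂ h
    have h1 : ev ψ₁ = ev ψ₂ := congrArg Prod.fst h
    have h2 : ∀ i ∈ s, ψ₁.1 i = ψ₂.1 i := fun i hi => congrFun (congrArg Prod.snd h) ⟨i, hi⟩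
    apply Subtype.ext
    apply RingHom.ext
    intro a
    obtain ⟨b, hb⟩ := hs a
    rw [hb, map_sum, map_sum]
    refine Finset.sum_congr rfl fun i hi => ?_
    rw [map_mul, map_mul, h2 i hi]
    congr 1
    have e1 := DFunLike.congr_fun (hχ ψ₁) (b i)
    have e2 := DFunLike.congr_fun (hχ ψ₂) (b i)
    rw [h1] at e1
    exact e1.trans e2.symm
  refine ⟨hfin, ?_⟩
  haveI := Fintype.ofFinite {ψ : A →+* F // ψ.comp (algebraMap R A) = φ}
  haveI := Fintype.ofFinite F
  rw [Nat.card_eq_fintype_card, Nat.card_eq_fintype_card]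
  have key := Finset.card_le_mul_card_image (f := ev)
    (Finset.univ : Finset {ψ : A →+* F // ψ.comp (algebraMap R A) = φ}) s.card ?_
  · calc Fintype.card {ψ : A →+* F // ψ.comp (algebraMap R A) = φ}
        = (Finset.univ : Finset {ψ : A →+* F // ψ.comp (algebraMap R A) = φ}).card := rfl
      _ ≤ s.card * ((Finset.univ : Finset {ψ : A →+* F // ψ.comp (algebraMap R A) = φ}).image
            ev).card := key
      _ ≤ s.card * Fintype.card (Fin d → F) := Nat.mul_le_mul_left _ (Finset.card_le_univ _)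
      _ = s.card * Fintype.card F ^ d := by rw [Fintype.card_fun]; simp
  · intro v _
    let T : Finset (A →+* F) :=
      ((Finset.univ : Finset {ψ : A →+* F // ψ.comp (algebraMap R A) = φ}).filter
        (fun ψ => ev ψ = v)).image Subtype.val
    have hcard : T.card =
        ((Finset.univ : Finset {ψ : A →+* F // ψ.comp (algebraMap R A) = φ}).filter
          (fun ψ => ev ψ = v)).card :=
      Finset.card_image_of_injective _ Subtype.val_injective
    rw [← hcard]
    apply card_fiber_le g s hs (eval₂Hom φ v) T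
    intro ψ hψ
    simp only [T, Finset.mem_image, Finset.mem_filter, Finset.mem_univ, true_and] at hψ
    obtain ⟨ψ', hv, rfl⟩ := hψ
    rw [hχ ψ', hv]

end Key

/-- Noether normalization computes the dimension (universe-polymorphic copy of helper18's
`DimFG.exists_noether`). -/
theorem exists_noether' (k : Type*) [Field k] (A : Type*) [CommRing A] [Nontrivial A]
    [Algebra k A] [Algebra.FiniteType k A] :
    ∃ (s : ℕ) (g : MvPolynomial (Fin s) k →ₐ[k] A), Function.Injective g ∧ g.Finite ∧
      ringKrullDim A = s := by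
  obtain ⟨s, g, hinj, hfin⟩ := exists_finite_inj_algHom_of_fg k A
  refine ⟨s, g, hinj, hfin, ?_⟩
  letI : Algebra (MvPolynomial (Fin s) k) A := g.toRingHom.toAlgebra
  haveI : Module.Finite (MvPolynomial (Fin s) k) A := hfin
  haveI : Algebra.IsIntegral (MvPolynomial (Fin s) k) A := Algebra.IsIntegral.of_finite _ _
  have h := Groth.Agent.Helper7.IntDim.ringKrullDim_eq_of_isIntegral_of_injective
    (A := MvPolynomial (Fin s) k) (B := A) hinj
  rw [h, MvPolynomial.ringKrullDim_of_isNoetherianRing, ringKrullDim_eq_zero_of_field]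
  simp

/-- A spanning finite set from a finite algebra homomorphism. -/
theorem exists_span_of_finite {R A : Type*} [CommRing R] [CommRing A] [Algebra R A] {d : ℕ}
    (g : MvPolynomial (Fin d) R →ₐ[R] A) (hg : g.Finite) :
    ∃ s : Finset A, ∀ a : A, ∃ c : A → MvPolynomial (Fin d) R, a = ∑ i ∈ s, g (c i) * i := by
  letI : Algebra (MvPolynomial (Fin d) R) A := g.toRingHom.toAlgebra
  have hfin' : Module.Finite (MvPolynomial (Fin d) R) A := hg
  obtain ⟨S, hS⟩ := hfin'.fg_top
  refine ⟨S, fun a => ?_⟩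
  have ha : a ∈ Submodule.span (MvPolynomial (Fin d) R) (S : Set A) := by rw [hS]; trivial
  obtain ⟨c, -, hc⟩ := Submodule.mem_span_finset.mp ha
  refine ⟨c, ?_⟩
  rw [← hc]
  refine Finset.sum_congr rfl fun i _ => ?_
  rw [Algebra.smul_def]
  rfl

/-- Point count bound for a finitely generated algebra over a field. -/
theorem field_count (k : Type*) [Field k] (A : Type*) [CommRing A] [Algebra k A]
    [Algebra.FiniteType k A] (r : ℕ) (hr : ringKrullDim A ≤ r) :
    ∃ e : ℕ, ∀ (F : Type w) [Field F] [Finite F] (φ : k →+* F),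
      Finite {ψ : A →+* F // ψ.comp (algebraMap k A) = φ} ∧
      Nat.card {ψ : A →+* F // ψ.comp (algebraMap k A) = φ} ≤ e * Nat.card F ^ r := by
  rcases subsingleton_or_nontrivial A with hA | hA
  · refine ⟨0, fun F _ _ φ => ?_⟩
    have : IsEmpty {ψ : A →+* F // ψ.comp (algebraMap k A) = φ} := ⟨fun ψ => by
      have : (1 : F) = 0 := by rw [← map_one ψ.1, Subsingleton.elim (1 : A) 0, map_zero]
      exact one_ne_zero this⟩
    exact ⟨inferInstance, by simp⟩
  · obtain ⟨s, g, hinj, hfin, hdim⟩ := exists_noether' k A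
    have hsr : s ≤ r := by
      rw [hdim] at hr
      exact_mod_cast hr
    obtain ⟨S, hS⟩ := exists_span_of_finite g hfin
    refine ⟨S.card, fun F _ _ φ => ?_⟩
    obtain ⟨h1, h2⟩ := card_ext_le φ g S hS
    refine ⟨h1, h2.trans ?_⟩
    exact Nat.mul_le_mul_left _ (Nat.pow_le_pow_right Nat.card_pos hsr)

end Groth.Agent.Helper19.PtCount
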