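import Mathlib
import Groth.Agent.Lib.Helper19.PtCount.Count

/-!
# Generic Noether normalisation over `ℤ[1/N]` (helper19)
-/

set_option autoImplicit false

namespace Groth.Agent.Helper19.PtCount

open TensorProduct MvPolynomial

universe w

attribute [local instance] Algebra.TensorProduct.rightAlgebra MvPolynomial.algebraMvPolynomial

/-- Rescaling the variables of a Noether normalisation. -/
theorem rescale {K B : Type*} [Field K] [CommRing B] [Algebra K B] {d : ℕ}
    (g : MvPolynomial (Fin d) K →ₐ[K] B) (hinj : Function.Injective g) (hfin : g.Finite)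
    (z : Fin d → K) (hz : ∀ i, z i ≠ 0) :
    Function.Injective
        (MvPolynomial.aeval (fun i => z i • g (X i)) : MvPolynomial (Fin d) K →ₐ[K] B) ∧
      (MvPolynomial.aeval (fun i => z i • g (X i)) : MvPolynomial (Fin d) K →ₐ[K] B).Finite := by
  let σ : MvPolynomial (Fin d) K →ₐ[K] MvPolynomial (Fin d) K := aeval (fun i => C (z i) * X i)
  let τ : MvPolynomial (Fin d) K →ₐ[K] MvPolynomial (Fin d) K :=
    aeval (fun i => C (z i)⁻¹ * X i)
  have hστ : σ.comp τ = AlgHom.id K _ := by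
    apply MvPolynomial.algHom_ext
    intro i
    simp only [σ, τ, AlgHom.comp_apply, aeval_X, map_mul, AlgHom.id_apply, algHom_C,
      MvPolynomial.algebraMap_eq]
    rw [← mul_assoc, ← C_mul, inv_mul_cancel₀ (hz i), C_1, one_mul]
  have hτσ : τ.comp σ = AlgHom.id K _ := by
    apply MvPolynomial.algHom_ext
    intro i
    simp only [σ, τ, AlgHom.comp_apply, aeval_X, map_mul, AlgHom.id_apply, algHom_C,
      MvPolynomial.algebraMap_eq]
    rw [← mul_assoc, ← C_mul, mul_inv_cancel₀ (hz i), C_1, one_mul]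
  have hh : (MvPolynomial.aeval (fun i => z i • g (X i)) : MvPolynomial (Fin d) K →ₐ[K] B)
      = g.comp σ := by
    apply MvPolynomial.algHom_ext
    intro i
    simp only [σ, AlgHom.comp_apply, aeval_X, map_mul, algHom_C]
    rw [Algebra.smul_def]
  rw [hh]
  constructor
  · have hσinj : Function.Injective σ :=
      Function.LeftInverse.injective (g := τ) (fun x => DFunLike.congr_fun hτσ x)
    exact hinj.comp hσinj
  · have hσsurj : Function.Surjective σ :=
      Function.RightInverse.surjective (g := τ) (fun x => DFunLike.congr_fun hστ x)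
    exact AlgHom.Finite.comp hfin (AlgHom.Finite.of_surjective σ hσsurj)

section Loc

variable (A : Type*) [CommRing A]

theorem isLocalization_AQ :
    IsLocalization (Algebra.algebraMapSubmonoid A (nonZeroDivisors ℤ)) (ℚ ⊗[ℤ] A) :=
  IsLocalization.tensorRight (R := ℤ) (S := A) ℚ (nonZeroDivisors ℤ)

theorem algebraMap_AQ_intCast (z : ℤ) : algebraMap A (ℚ ⊗[ℤ] A) (z : A) = (z : ℚ ⊗[ℤ] A) :=
  map_intCast _ _

/-- Every element of `ℚ ⊗ A` becomes integral after multiplication by a nonzero integer. -/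
theorem exists_int_mul_eq (q : ℚ ⊗[ℤ] A) :
    ∃ (a : A) (z : ℤ), z ≠ 0 ∧ (z : ℚ ⊗[ℤ] A) * q = algebraMap A (ℚ ⊗[ℤ] A) a := by
  haveI := isLocalization_AQ A
  obtain ⟨⟨a, m⟩, hm⟩ := IsLocalization.surj (Algebra.algebraMapSubmonoid A (nonZeroDivisors ℤ)) q
  obtain ⟨z, hz, hzm⟩ := m.2
  refine ⟨a, z, nonZeroDivisors.ne_zero hz, ?_⟩
  simp only at hm
  rw [← hm, ← hzm, mul_comm]
  congr 1
  simp

/-- The kernel of `A → ℚ ⊗ A` is the torsion. -/
theorem exists_int_mul_eq_zero (a : A) (ha : algebraMap A (ℚ ⊗[ℤ] A) a = 0) :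
    ∃ z : ℤ, z ≠ 0 ∧ (z : A) * a = 0 := by
  haveI := isLocalization_AQ A
  obtain ⟨m, hm⟩ := (IsLocalization.map_eq_zero_iff
    (Algebra.algebraMapSubmonoid A (nonZeroDivisors ℤ)) (ℚ ⊗[ℤ] A) a).mp ha
  obtain ⟨z, hz, hzm⟩ := m.2
  refine ⟨z, nonZeroDivisors.ne_zero hz, ?_⟩
  rw [← hm, ← hzm]
  simp

end Loc

section NN

variable (A : Type*) [CommRing A] [Algebra.FiniteType ℤ A]

theorem exists_int_noether [Nontrivial (ℚ ⊗[ℤ] A)] :
    ∃ (d : ℕ) (y : Fin d → A) (h : MvPolynomial (Fin d) ℚ →ₐ[ℚ] ℚ ⊗[ℤ] A),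
      Function.Injective h ∧ h.Finite ∧
        (∀ i, h (X i) = algebraMap A (ℚ ⊗[ℤ] A) (y i)) := by
  obtain ⟨d, g, hginj, hgfin, -⟩ := exists_noether' ℚ (ℚ ⊗[ℤ] A)
  choose a z hz haz using fun i => exists_int_mul_eq A (g (X i))
  obtain ⟨h1, h2⟩ := rescale g hginj hgfin (fun i => (z i : ℚ))
    (fun i => by exact_mod_cast hz i)
  refine ⟨d, a, _, h1, h2, fun i => ?_⟩
  rw [aeval_X, ← haz i, Algebra.smul_def]
  congr 1

omit [Algebra.FiniteType ℤ A] in
theorem exists_integral_multiple {d : ℕ} (y : Fin d → A)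
    (h : MvPolynomial (Fin d) ℚ →ₐ[ℚ] ℚ ⊗[ℤ] A)
    (hfin : h.Finite) (hy : ∀ i, h (X i) = algebraMap A (ℚ ⊗[ℤ] A) (y i)) (x : A) :
    ∃ (z s : ℤ) (Q : Polynomial (MvPolynomial (Fin d) ℤ)), z ≠ 0 ∧ s ≠ 0 ∧ Q.Monic ∧
      (s : A) * Q.eval₂ (aeval y : MvPolynomial (Fin d) ℤ →ₐ[ℤ] A).toRingHom ((z : A) * x)
        = 0 := by
  have hcomm : h.toRingHom.comp
      (algebraMap (MvPolynomial (Fin d) ℤ) (MvPolynomial (Fin d) ℚ)) =
      (algebraMap A (ℚ ⊗[ℤ] A)).comp
        (aeval y : MvPolynomial (Fin d) ℤ →ₐ[ℤ] A).toRingHom := by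
    have halg : algebraMap (MvPolynomial (Fin d) ℤ) (MvPolynomial (Fin d) ℚ) =
        MvPolynomial.map (algebraMap ℤ ℚ) := rfl
    rw [halg]
    apply MvPolynomial.ringHom_ext
    · intro n
      simp
    · intro i
      simp [hy]
  letI algQY : Algebra (MvPolynomial (Fin d) ℚ) (ℚ ⊗[ℤ] A) := h.toRingHom.toAlgebra
  letI algZY : Algebra (MvPolynomial (Fin d) ℤ) (ℚ ⊗[ℤ] A) :=
    (h.toRingHom.comp
      (algebraMap (MvPolynomial (Fin d) ℤ) (MvPolynomial (Fin d) ℚ))).toAlgebra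
  haveI : IsScalarTower (MvPolynomial (Fin d) ℤ) (MvPolynomial (Fin d) ℚ) (ℚ ⊗[ℤ] A) :=
    IsScalarTower.of_algebraMap_eq (fun _ => rfl)
  haveI : Module.Finite (MvPolynomial (Fin d) ℚ) (ℚ ⊗[ℤ] A) := hfin
  haveI : Algebra.IsIntegral (MvPolynomial (Fin d) ℚ) (ℚ ⊗[ℤ] A) :=
    Algebra.IsIntegral.of_finite _ _
  haveI : IsLocalization ((nonZeroDivisors ℤ).map (C : ℤ →+* MvPolynomial (Fin d) ℤ))
      (MvPolynomial (Fin d) ℚ) := MvPolynomial.isLocalization (nonZeroDivisors ℤ) ℚ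
  obtain ⟨m, hint⟩ := IsIntegral.exists_multiple_integral_of_isLocalization
    ((nonZeroDivisors ℤ).map (C : ℤ →+* MvPolynomial (Fin d) ℤ))
    (algebraMap A (ℚ ⊗[ℤ] A) x)
    (Algebra.IsIntegral.isIntegral (R := MvPolynomial (Fin d) ℚ) (algebraMap A (ℚ ⊗[ℤ] A) x))
  obtain ⟨z, hz, hzm⟩ := m.2
  have hsm : (m • algebraMap A (ℚ ⊗[ℤ] A) x) = algebraMap A (ℚ ⊗[ℤ] A) ((z : A) * x) := by
    rw [Submonoid.smul_def, ← hzm, Algebra.smul_def]
    change (h.toRingHom.comp
      (algebraMap (MvPolynomial (Fin d) ℤ) (MvPolynomial (Fin d) ℚ))) (C z) * _ = _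
    rw [hcomm]
    simp
  rw [hsm] at hint
  obtain ⟨Q, hQ, hQ0⟩ := hint
  have hQ1 : algebraMap A (ℚ ⊗[ℤ] A)
      (Q.eval₂ (aeval y : MvPolynomial (Fin d) ℤ →ₐ[ℤ] A).toRingHom ((z : A) * x)) = 0 := by
    rw [Polynomial.hom_eval₂, ← hcomm]
    exact hQ0
  obtain ⟨s, hs, hs0⟩ := exists_int_mul_eq_zero A _ hQ1
  exact ⟨z, s, Q, nonZeroDivisors.ne_zero hz, hs, hQ, hs0⟩

end NN

section Spread

variable {A : Type*} [CommRing A] (N : ℕ)

local notation "ZN" => Localization.Away ((N : ℕ) : ℤ)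
local notation "CN" => Localization.Away ((N : ℕ) : A)

theorem isUnit_natCast_CN : IsUnit ((N : ℕ) : CN) := by
  have := IsLocalization.Away.algebraMap_isUnit (S := CN) ((N : ℕ) : A)
  rwa [map_natCast] at this

/-- The canonical map `ℤ[1/N] → A[1/N]`. -/
noncomputable def rhoZN : ZN →+* CN :=
  IsLocalization.Away.lift ((N : ℕ) : ℤ) (g := Int.castRingHom CN)
    (by simpa using isUnit_natCast_CN (A := A) N)

/-- `A[1/N]` as an algebra over `ℤ[1/N]`. -/
@[reducible] noncomputable def algZN : Algebra ZN CN := (rhoZN (A := A) N).toAlgebra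

attribute [local instance] algZN

theorem algebraMap_ZN_CN_intCast (n : ℤ) :
    algebraMap ZN CN (algebraMap ℤ ZN n) = (n : CN) := by
  change rhoZN N (algebraMap ℤ ZN n) = _
  rw [rhoZN, IsLocalization.Away.lift_eq]
  rfl

theorem isUnit_ZN_of_dvd {z : ℤ} (hz : z ∣ ((N : ℕ) : ℤ)) : IsUnit (algebraMap ℤ ZN z) :=
  isUnit_of_dvd_unit (map_dvd (algebraMap ℤ ZN) hz)
    (IsLocalization.Away.algebraMap_isUnit ((N : ℕ) : ℤ))

theorem isUnit_CN_of_dvd {z : ℤ} (hz : z ∣ ((N : ℕ) : ℤ)) : IsUnit ((z : ℤ) : CN) := by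
  have h1 := isUnit_of_dvd_unit (map_dvd (Int.castRingHom CN) hz)
    (by simpa using isUnit_natCast_CN (A := A) N)
  simpa using h1

/-- The spread-out Noether normalisation is injective. -/
theorem spread_injective (hN : 0 < N) {d : ℕ} (y : Fin d → A)
    (h : MvPolynomial (Fin d) ℚ →ₐ[ℚ] ℚ ⊗[ℤ] A) (hinj : Function.Injective h)
    (hy : ∀ i, h (X i) = algebraMap A (ℚ ⊗[ℤ] A) (y i)) :
    Function.Injective
      (aeval (fun i => algebraMap A CN (y i)) : MvPolynomial (Fin d) ZN →ₐ[ZN] CN) := by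
  have hNQ : ((N : ℕ) : ℚ) ≠ 0 := by exact_mod_cast hN.ne'
  have hunitQ : IsUnit (algebraMap ℤ ℚ ((N : ℕ) : ℤ)) := by
    rw [isUnit_iff_ne_zero]
    simpa using hNQ
  let θ : ZN →+* ℚ := IsLocalization.Away.lift ((N : ℕ) : ℤ) (g := algebraMap ℤ ℚ) hunitQ
  have hθ : ∀ n : ℤ, θ (algebraMap ℤ ZN n) = (n : ℚ) := fun n => by
    simp only [θ, IsLocalization.Away.lift_eq]
    rfl
  have hθinj : Function.Injective θ := by
    rw [injective_iff_map_eq_zero]
    intro a ha
    obtain ⟨n, b, hb⟩ := IsLocalization.Away.surj ((N : ℕ) : ℤ) a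
    have h1 := congrArg θ hb
    rw [map_mul, ha, zero_mul, hθ] at h1
    have hb0 : b = 0 := by exact_mod_cast h1.symm
    rw [hb0, map_zero] at hb
    exact (IsUnit.mul_left_eq_zero
      (IsLocalization.Away.algebraMap_pow_isUnit ((N : ℕ) : ℤ) n)).mp hb
  have hunitAQ : IsUnit (algebraMap A (ℚ ⊗[ℤ] A) ((N : ℕ) : A)) := by
    have h1 : algebraMap A (ℚ ⊗[ℤ] A) ((N : ℕ) : A) = algebraMap ℚ (ℚ ⊗[ℤ] A) ((N : ℕ) : ℚ) := by
      rw [map_natCast, map_natCast]
    rw [h1]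
    exact (isUnit_iff_ne_zero.mpr hNQ).map _
  let κ : CN →+* ℚ ⊗[ℤ] A :=
    IsLocalization.Away.lift ((N : ℕ) : A) (g := algebraMap A (ℚ ⊗[ℤ] A)) hunitAQ
  have hκ : ∀ a : A, κ (algebraMap A CN a) = algebraMap A (ℚ ⊗[ℤ] A) a := fun a => by
    simp only [κ, IsLocalization.Away.lift_eq]
  have hκρ : κ.comp (algebraMap ZN CN) = (algebraMap ℚ (ℚ ⊗[ℤ] A)).comp θ := by
    apply IsLocalization.ringHom_ext (Submonoid.powers ((N : ℕ) : ℤ))
    exact RingHom.ext_int _ _
  have hcomm : κ.comp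
      (aeval (fun i => algebraMap A CN (y i)) : MvPolynomial (Fin d) ZN →ₐ[ZN] CN).toRingHom
      = h.toRingHom.comp (MvPolynomial.map θ) := by
    apply MvPolynomial.ringHom_ext
    · intro w
      have h2 := DFunLike.congr_fun hκρ w
      simp only [RingHom.comp_apply] at h2
      simp only [RingHom.comp_apply, AlgHom.toRingHom_eq_coe, RingHom.coe_coe, algHom_C,
        map_C]
      rw [h2]
    · intro i
      simp only [RingHom.comp_apply, AlgHom.toRingHom_eq_coe, RingHom.coe_coe, aeval_X, map_X]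
      rw [hκ, hy]
  intro a b hab
  have h3 : (κ.comp (aeval (fun i => algebraMap A CN (y i)) :
      MvPolynomial (Fin d) ZN →ₐ[ZN] CN).toRingHom) a =
      (κ.comp (aeval (fun i => algebraMap A CN (y i)) :
      MvPolynomial (Fin d) ZN →ₐ[ZN] CN).toRingHom) b := by
    simp only [RingHom.comp_apply, AlgHom.toRingHom_eq_coe, RingHom.coe_coe, hab]
  rw [hcomm] at h3
  exact MvPolynomial.map_injective θ hθinj (hinj h3)

/-- The spread-out Noether normalisation is finite. -/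
theorem spread_finite [Algebra.FiniteType ℤ A] {d : ℕ} (y : Fin d → A)
    (G : Finset A) (hG : Algebra.adjoin ℤ (G : Set A) = ⊤)
    (zf sf : A → ℤ) (Qf : A → Polynomial (MvPolynomial (Fin d) ℤ))
    (hQf : ∀ x, (Qf x).Monic)
    (hrel : ∀ x, (sf x : A) * (Qf x).eval₂
      (aeval y : MvPolynomial (Fin d) ℤ →ₐ[ℤ] A).toRingHom ((zf x : A) * x) = 0)
    (hdz : ∀ x ∈ G, zf x ∣ ((N : ℕ) : ℤ)) (hds : ∀ x ∈ G, sf x ∣ ((N : ℕ) : ℤ)) :
    AlgHom.Finite (R := ZN) (A := MvPolynomial (Fin d) ZN) (B := CN)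
      (aeval (fun i => algebraMap A CN (y i)) : MvPolynomial (Fin d) ZN →ₐ[ZN] CN) := by
  set g' : MvPolynomial (Fin d) ZN →ₐ[ZN] CN := aeval (fun i => algebraMap A CN (y i)) with hg'
  letI algY : Algebra (MvPolynomial (Fin d) ZN) CN := g'.toRingHom.toAlgebra
  haveI : IsScalarTower ZN (MvPolynomial (Fin d) ZN) CN :=
    IsScalarTower.of_algebraMap_eq (fun x => (g'.commutes x).symm)
  have hcomm2 : g'.toRingHom.comp (MvPolynomial.map (algebraMap ℤ ZN)) =
      (algebraMap A CN).comp (aeval y : MvPolynomial (Fin d) ℤ →ₐ[ℤ] A).toRingHom := by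
    apply MvPolynomial.ringHom_ext
    · intro n
      simp only [RingHom.comp_apply, AlgHom.toRingHom_eq_coe, RingHom.coe_coe, map_C, algHom_C]
      rw [algebraMap_ZN_CN_intCast]
      simp
    · intro i
      simp [hg']
  have hint_alg : ∀ w : ZN, IsIntegral (MvPolynomial (Fin d) ZN) (algebraMap ZN CN w) :=
    fun w => by
      rw [IsScalarTower.algebraMap_apply ZN (MvPolynomial (Fin d) ZN) CN]
      exact isIntegral_algebraMap
  have hint_int : ∀ n : ℤ, IsIntegral (MvPolynomial (Fin d) ZN) ((n : ℤ) : CN) := fun n => by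
    rw [← algebraMap_ZN_CN_intCast]
    exact hint_alg _
  have hint_gen : ∀ x ∈ G, IsIntegral (MvPolynomial (Fin d) ZN) (algebraMap A CN x) := by
    intro x hx
    have h1 := congrArg (algebraMap A CN) (hrel x)
    rw [map_mul, map_zero, map_intCast, Polynomial.hom_eval₂, ← hcomm2, map_mul,
      map_intCast] at h1
    have h2 := (isUnit_CN_of_dvd (A := A) N (hds x hx)).mul_right_eq_zero.mp h1
    rw [← Polynomial.eval₂_map] at h2
    have h3 : IsIntegral (MvPolynomial (Fin d) ZN) (((zf x : ℤ) : CN) * algebraMap A CN x) :=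
      ⟨(Qf x).map (MvPolynomial.map (algebraMap ℤ ZN)), (hQf x).map _, h2⟩
    obtain ⟨u, hu⟩ := (isUnit_ZN_of_dvd N (hdz x hx))
    have h4 : algebraMap A CN x =
        algebraMap ZN CN (↑u⁻¹) * (((zf x : ℤ) : CN) * algebraMap A CN x) := by
      rw [← mul_assoc, ← algebraMap_ZN_CN_intCast, ← hu, ← map_mul, Units.inv_mul, map_one,
        one_mul]
    rw [h4]
    exact (hint_alg _).mul h3
  have hint_A : ∀ a : A, IsIntegral (MvPolynomial (Fin d) ZN) (algebraMap A CN a) := by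
    intro a
    have ha : a ∈ Algebra.adjoin ℤ (G : Set A) := by rw [hG]; trivial
    induction ha using Algebra.adjoin_induction with
    | mem x hx => exact hint_gen x hx
    | algebraMap n =>
      rw [algebraMap_int_eq, eq_intCast, map_intCast]
      exact hint_int n
    | add a b _ _ ha hb => rw [map_add]; exact ha.add hb
    | mul a b _ _ ha hb => rw [map_mul]; exact ha.mul hb
  obtain ⟨u, hu⟩ := IsLocalization.Away.algebraMap_isUnit (S := ZN) ((N : ℕ) : ℤ)
  have hdecomp : ∀ c : CN, ∃ (n : ℕ) (a : A),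
      c = algebraMap A CN a * (algebraMap ZN CN (↑u⁻¹)) ^ n := by
    intro c
    obtain ⟨n, a, hc⟩ := IsLocalization.Away.surj ((N : ℕ) : A) c
    have h5 : algebraMap A CN ((N : ℕ) : A) = algebraMap ZN CN ↑u := by
      rw [hu, algebraMap_ZN_CN_intCast]
      simp
    refine ⟨n, a, ?_⟩
    rw [← hc, h5, mul_assoc, ← mul_pow, ← map_mul, Units.mul_inv, map_one, one_pow, mul_one]
  have hint_C : ∀ c : CN, IsIntegral (MvPolynomial (Fin d) ZN) c := by
    intro c
    obtain ⟨n, a, h6⟩ := hdecomp c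
    rw [h6]
    exact (hint_A a).mul ((hint_alg _).pow n)
  haveI : Algebra.IsIntegral (MvPolynomial (Fin d) ZN) CN := ⟨hint_C⟩
  haveI : Algebra.FiniteType (MvPolynomial (Fin d) ZN) CN := by
    classical
    refine ⟨⟨G.image (algebraMap A CN), ?_⟩⟩
    rw [eq_top_iff]
    rintro c -
    have hA' : ∀ a : A, algebraMap A CN a ∈ Algebra.adjoin (MvPolynomial (Fin d) ZN)
        ((G.image (algebraMap A CN) : Finset CN) : Set CN) := by
      intro a
      have ha : a ∈ Algebra.adjoin ℤ (G : Set A) := by rw [hG]; trivial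
      induction ha using Algebra.adjoin_induction with
      | mem x hx =>
        refine Algebra.subset_adjoin ?_
        simp only [Finset.coe_image, Set.mem_image, Finset.mem_coe]
        exact ⟨x, hx, rfl⟩
      | algebraMap n =>
        rw [algebraMap_int_eq, eq_intCast, map_intCast]
        exact Subalgebra.intCast_mem (R := MvPolynomial (Fin d) ZN) (A := CN)
          (Algebra.adjoin (MvPolynomial (Fin d) ZN)
            ((G.image (algebraMap A CN) : Finset CN) : Set CN)) n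
      | add a b _ _ ha hb => rw [map_add]; exact add_mem ha hb
      | mul a b _ _ ha hb => rw [map_mul]; exact mul_mem ha hb
    obtain ⟨n, a, h6⟩ := hdecomp c
    rw [h6]
    refine mul_mem (hA' a) (pow_mem ?_ n)
    rw [IsScalarTower.algebraMap_apply ZN (MvPolynomial (Fin d) ZN) CN]
    exact Subalgebra.algebraMap_mem _ _
  exact Algebra.IsIntegral.finite

theorem one_le_ringKrullDim_ZN (hN : 0 < N) : (1 : WithBot ℕ∞) ≤ ringKrullDim ZN := by
  obtain ⟨p, hpN, hp⟩ := Nat.exists_infinite_primes (N + 1)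
  have hle : Submonoid.powers ((N : ℕ) : ℤ) ≤ nonZeroDivisors ℤ :=
    powers_le_nonZeroDivisors_of_noZeroDivisors (by exact_mod_cast hN.ne')
  haveI : IsDomain ZN := IsLocalization.isDomain_localization hle
  have hinjZ : Function.Injective (algebraMap ℤ ZN) := IsLocalization.injective ZN hle
  have hp0 : algebraMap ℤ ZN (p : ℤ) ≠ 0 := by
    rw [Ne, map_eq_zero_iff _ hinjZ]
    exact_mod_cast hp.ne_zero
  have hpnu : ¬ IsUnit (algebraMap ℤ ZN (p : ℤ)) := by
    rw [IsLocalization.Away.algebraMap_isUnit_iff ((N : ℕ) : ℤ)]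
    rintro ⟨n, hn⟩
    have hpp : Prime (p : ℤ) := Nat.prime_iff_prime_int.mp hp
    have h1 : (p : ℤ) ∣ ((N : ℕ) : ℤ) := hpp.dvd_of_dvd_pow hn
    have h2 : p ∣ N := Int.natCast_dvd_natCast.mp h1
    have := Nat.le_of_dvd hN h2
    omega
  have hmem : algebraMap ℤ ZN (p : ℤ) ∈ nonZeroDivisors ZN := mem_nonZeroDivisors_of_ne_zero hp0
  have h1 := ringKrullDim_quotient_succ_le_of_nonZeroDivisor hmem
  have hnt : Nontrivial (ZN ⧸ Ideal.span {algebraMap ℤ ZN (p : ℤ)}) := by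
    rw [Ideal.Quotient.nontrivial_iff]
    rwa [Ne, Ideal.span_singleton_eq_top]
  have h2 := ringKrullDim_nonneg_of_nontrivial
    (R := ZN ⧸ Ideal.span {algebraMap ℤ ZN (p : ℤ)})
  calc (1 : WithBot ℕ∞) = 0 + 1 := by simp
    _ ≤ ringKrullDim (ZN ⧸ Ideal.span {algebraMap ℤ ZN (p : ℤ)}) + 1 := add_le_add_left h2 1
    _ ≤ ringKrullDim ZN := h1

theorem ringKrullDim_CN_le : ringKrullDim CN ≤ ringKrullDim A := by
  rw [← PrimeSpectrum.topologicalKrullDim_eq_ringKrullDim,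
    ← PrimeSpectrum.topologicalKrullDim_eq_ringKrullDim]
  exact (PrimeSpectrum.localization_comap_isInducing CN
    (Submonoid.powers ((N : ℕ) : A))).topologicalKrullDim_le

theorem count_of_data [Algebra.FiniteType ℤ A] (hN : 0 < N) (r : ℕ) (hr : ringKrullDim A ≤ r)
    {d : ℕ} (y : Fin d → A)
    (h : MvPolynomial (Fin d) ℚ →ₐ[ℚ] ℚ ⊗[ℤ] A) (hinj : Function.Injective h)
    (hy : ∀ i, h (X i) = algebraMap A (ℚ ⊗[ℤ] A) (y i))
    (G : Finset A) (hG : Algebra.adjoin ℤ (G : Set A) = ⊤)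
    (zf sf : A → ℤ) (Qf : A → Polynomial (MvPolynomial (Fin d) ℤ))
    (hQf : ∀ x, (Qf x).Monic)
    (hrel : ∀ x, (sf x : A) * (Qf x).eval₂
      (aeval y : MvPolynomial (Fin d) ℤ →ₐ[ℤ] A).toRingHom ((zf x : A) * x) = 0)
    (hdz : ∀ x ∈ G, zf x ∣ ((N : ℕ) : ℤ)) (hds : ∀ x ∈ G, sf x ∣ ((N : ℕ) : ℤ)) :
    ∃ e : ℕ, ∀ (F : Type w) [Field F] [Finite F], ((N : F) ≠ 0) →
      Finite (A →+* F) ∧ 1 ≤ r ∧ Nat.card (A →+* F) ≤ e * Nat.card F ^ (r - 1) := by
  have hg'inj := spread_injective N hN y h hinj hy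
  have hg'fin := spread_finite N y G hG zf sf Qf hQf hrel hdz hds
  obtain ⟨S, hS⟩ := exists_span_of_finite (R := ZN) (A := CN) _ hg'fin
  have hd : d + 1 ≤ r := by
    letI : Algebra (MvPolynomial (Fin d) ZN) CN :=
      (aeval (fun i => algebraMap A CN (y i)) :
        MvPolynomial (Fin d) ZN →ₐ[ZN] CN).toRingHom.toAlgebra
    haveI : Module.Finite (MvPolynomial (Fin d) ZN) CN := hg'fin
    haveI : Algebra.IsIntegral (MvPolynomial (Fin d) ZN) CN := Algebra.IsIntegral.of_finite _ _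
    have h1 := Groth.Agent.Helper7.IntDim.ringKrullDim_eq_of_isIntegral_of_injective
      (A := MvPolynomial (Fin d) ZN) (B := CN) hg'inj
    have h2 := ringKrullDim_add_natCard_le_ringKrullDim_mvPolynomial (R := ZN) (Fin d)
    have h3 := one_le_ringKrullDim_ZN N hN
    have h4 := ringKrullDim_CN_le (A := A) N
    have h5 : ((d + 1 : ℕ) : WithBot ℕ∞) ≤ r := by
      calc ((d + 1 : ℕ) : WithBot ℕ∞) = 1 + (d : WithBot ℕ∞) := by
            push_cast
            rw [add_comm]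
        _ ≤ ringKrullDim ZN + (d : WithBot ℕ∞) := add_le_add_left h3 _
        _ ≤ ringKrullDim (MvPolynomial (Fin d) ZN) := by simpa using h2
        _ = ringKrullDim CN := h1.symm
        _ ≤ ringKrullDim A := h4
        _ ≤ r := hr
    exact_mod_cast h5
  refine ⟨S.card, fun F _ _ hNF => ?_⟩
  have hunitF : IsUnit (Int.castRingHom F ((N : ℕ) : ℤ)) := by
    rw [isUnit_iff_ne_zero]
    simpa using hNF
  let φ : ZN →+* F := IsLocalization.Away.lift ((N : ℕ) : ℤ) (g := Int.castRingHom F) hunitF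
  obtain ⟨hf1, hf2⟩ := card_ext_le φ _ S hS
  let Φ : (A →+* F) → {ψ : CN →+* F // ψ.comp (algebraMap ZN CN) = φ} := fun ψ =>
    ⟨IsLocalization.Away.lift ((N : ℕ) : A) (g := ψ) (by
        rw [map_natCast]
        exact isUnit_iff_ne_zero.mpr hNF), by
      apply IsLocalization.ringHom_ext (Submonoid.powers ((N : ℕ) : ℤ))
      exact RingHom.ext_int _ _⟩
  have hΦ : Function.Injective Φ := by
    intro ψ₁ ψ₂ hh
    have := congrArg (fun q => q.1.comp (algebraMap A CN)) hh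
    simpa [Φ, IsLocalization.Away.lift_comp] using this
  refine ⟨Finite.of_injective Φ hΦ, by omega, ?_⟩
  calc Nat.card (A →+* F)
      ≤ Nat.card {ψ : CN →+* F // ψ.comp (algebraMap ZN CN) = φ} :=
        Nat.card_le_card_of_injective Φ hΦ
    _ ≤ S.card * Nat.card F ^ d := hf2
    _ ≤ S.card * Nat.card F ^ (r - 1) :=
        Nat.mul_le_mul_left _ (Nat.pow_le_pow_right Nat.card_pos (by omega))

end Spread

/-- **Generic point count**: for a finitely generated `ℤ`-algebra of dimension `≤ r` there are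
`e`, `N` such that for all finite fields `F` in which `N` is invertible, `A` has at most
`e |F|^(r-1)` points with values in `F` (and none if `r = 0`). -/
theorem generic_count (A : Type*) [CommRing A] [Algebra.FiniteType ℤ A] (r : ℕ)
    (hr : ringKrullDim A ≤ r) :
    ∃ (e N : ℕ), 0 < N ∧ ∀ (F : Type w) [Field F] [Finite F], ((N : F) ≠ 0) →
      Finite (A →+* F) ∧ (Nat.card (A →+* F) = 0 ∨
        (1 ≤ r ∧ Nat.card (A →+* F) ≤ e * Nat.card F ^ (r - 1))) := by
  rcases subsingleton_or_nontrivial (ℚ ⊗[ℤ] A) with hsub | hnt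
  · obtain ⟨z, hz, hz0⟩ := exists_int_mul_eq_zero A 1 (Subsingleton.elim _ _)
    rw [mul_one] at hz0
    refine ⟨0, z.natAbs, Int.natAbs_pos.mpr hz, fun F _ _ hN => ?_⟩
    have hempty : IsEmpty (A →+* F) := ⟨fun ψ => by
      apply hN
      have h1 : ((z : ℤ) : F) = 0 := by rw [← map_intCast ψ, hz0, map_zero]
      have h2 : (((|z| : ℤ)) : F) = 0 := by
        rcases abs_choice z with h | h <;> rw [h] <;> simp [h1]
      rw [← Nat.cast_natAbs] at h2
      exact_mod_cast h2⟩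
    exact ⟨inferInstance, Or.inl (by simp)⟩
  · obtain ⟨d, y, h, hinj, hfin, hy⟩ := exists_int_noether A
    obtain ⟨G, hG⟩ := (Algebra.FiniteType.out : (⊤ : Subalgebra ℤ A).FG)
    choose zf sf Qf hzf hsf hQf hrel using exists_integral_multiple A y h hfin hy
    classical
    have hNpos : 0 < ∏ x ∈ G, (zf x * sf x).natAbs :=
      Finset.prod_pos fun x _ => Int.natAbs_pos.mpr (mul_ne_zero (hzf x) (hsf x))
    have hdvd : ∀ x ∈ G, (zf x * sf x) ∣ ((∏ x ∈ G, (zf x * sf x).natAbs : ℕ) : ℤ) :=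
      fun x hx => by
        have h1 : (zf x * sf x).natAbs ∣ ∏ x ∈ G, (zf x * sf x).natAbs :=
          Finset.dvd_prod_of_mem (fun x => (zf x * sf x).natAbs) hx
        apply Int.natAbs_dvd_natAbs.mp
        rw [Int.natAbs_natCast]
        exact h1
    have hdz : ∀ x ∈ G, zf x ∣ ((∏ x ∈ G, (zf x * sf x).natAbs : ℕ) : ℤ) :=
      fun x hx => (Dvd.intro _ rfl).trans (hdvd x hx)
    have hds : ∀ x ∈ G, sf x ∣ ((∏ x ∈ G, (zf x * sf x).natAbs : ℕ) : ℤ) :=
      fun x hx => (Dvd.intro_left _ rfl).trans (hdvd x hx)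
    obtain ⟨e, he⟩ := count_of_data.{w, _} (∏ x ∈ G, (zf x * sf x).natAbs) hNpos r hr y h hinj
      hy G hG zf sf Qf hQf hrel hdz hds
    exact ⟨e, _, hNpos, fun F _ _ hNF => ⟨(he F hNF).1, Or.inr (he F hNF).2⟩⟩

end Groth.Agent.Helper19.PtCount
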