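import Mathlib
import Groth.Agent.Lib.Helper19.PtCount.Count
import Groth.Agent.Lib.Helper19.PtCount.GenNN

/-!
# Counting points of a finitely generated `ℤ`-algebra in finite fields of a given characteristic
(helper19)
-/

set_option autoImplicit false

namespace Groth.Agent.Helper19.PtCount

open TensorProduct

universe w

/-- For a finitely generated `ℤ`-algebra `A` of dimension `≤ r` and a prime `p`: the number of
`F`-points of `A`, for finite fields `F` of characteristic `p`, is `O(|F|^r)`. -/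
theorem prime_count (A : Type*) [CommRing A] [Algebra.FiniteType ℤ A] (r : ℕ)
    (hr : ringKrullDim A ≤ r) (p : ℕ) [Fact p.Prime] :
    ∃ e : ℕ, ∀ (F : Type w) [Field F] [Finite F] [CharP F p],
      Finite (A →+* F) ∧ Nat.card (A →+* F) ≤ e * Nat.card F ^ r := by
  have hdim : ringKrullDim (ZMod p ⊗[ℤ] A) ≤ r := by
    refine le_trans (ringKrullDim_le_of_surjective
      (Algebra.TensorProduct.includeRight : A →ₐ[ℤ] ZMod p ⊗[ℤ] A).toRingHom ?_) hr
    exact Algebra.TensorProduct.includeRight_surjective A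
      (fun x => by
        obtain ⟨n, rfl⟩ := ZMod.intCast_surjective x
        exact ⟨n, by simp⟩)
  obtain ⟨e, he⟩ := field_count.{w} (ZMod p) (ZMod p ⊗[ℤ] A) r hdim
  refine ⟨e, fun F _ _ _ => ?_⟩
  letI : Algebra (ZMod p) F := ZMod.algebra F p
  obtain ⟨h1, h2⟩ := he F (algebraMap (ZMod p) F)
  let Φ : (A →+* F) → {ψ : ZMod p ⊗[ℤ] A →+* F //
      ψ.comp (algebraMap (ZMod p) (ZMod p ⊗[ℤ] A)) = algebraMap (ZMod p) F} := fun ψ =>
    ⟨(Algebra.TensorProduct.lift (Algebra.ofId (ZMod p) F) ψ.toIntAlgHom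
      (fun _ _ => Commute.all _ _)).toRingHom, by
      ext x
      simp [Algebra.TensorProduct.algebraMap_apply, Algebra.ofId_apply]⟩
  have hΦ : Function.Injective Φ := by
    intro ψ₁ ψ₂ h
    ext a
    have := congrArg (fun q => q.1 ((1 : ZMod p) ⊗ₜ[ℤ] a)) h
    simpa [Φ] using this
  exact ⟨Finite.of_injective Φ hΦ, (Nat.card_le_card_of_injective Φ hΦ).trans h2⟩

/-- A finite field with `p ^ m` elements (`p` prime, `m ≥ 1`) has characteristic `p`. -/
theorem charP_of_card {F : Type*} [Field F] {p m : ℕ} (hp : p.Prime) (hm : 1 ≤ m)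
    (hF : Nat.card F = p ^ m) : Finite F ∧ CharP F p := by
  have hfin : Finite F := Nat.finite_of_card_ne_zero (by rw [hF]; exact pow_ne_zero _ hp.ne_zero)
  refine ⟨hfin, ?_⟩
  haveI := Fintype.ofFinite F
  obtain ⟨p', hc, n, hp', hn⟩ := FiniteField.card' F
  rw [← Nat.card_eq_fintype_card, hF] at hn
  have h1 : p' ∣ p ^ m := by rw [hn]; exact dvd_pow_self _ n.ne_zero
  have h2 : p' = p := (Nat.prime_dvd_prime_iff_eq hp' hp).mp (hp'.dvd_of_dvd_pow h1)
  rw [← h2]
  exact hc

/-- **Point counts of a finitely generated `ℤ`-algebra of dimension `≤ r`.** -/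
theorem int_count (A : Type*) [CommRing A] [Algebra.FiniteType ℤ A] (r : ℕ)
    (hr : ringKrullDim A ≤ r) :
    ∃ (c p₀ : ℕ), ∀ (p m : ℕ), p.Prime → 1 ≤ m → ∀ (F : Type w) [Field F],
      Nat.card F = p ^ m →
        Finite (A →+* F) ∧
        (p₀ ≤ p → Nat.card (A →+* F) = 0 ∨
          (1 ≤ r ∧ Nat.card (A →+* F) ≤ c * (p ^ m) ^ (r - 1))) ∧
        Nat.card (A →+* F) ≤ c * (p ^ m) ^ r := by
  obtain ⟨e, N, hN, hgen⟩ := generic_count.{w} A r hr
  have hprime : ∀ p : ℕ, ∃ e : ℕ, p.Prime → ∀ (F : Type w) [Field F] [Finite F] [CharP F p],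
      Finite (A →+* F) ∧ Nat.card (A →+* F) ≤ e * Nat.card F ^ r := by
    intro p
    by_cases hp : p.Prime
    · haveI : Fact p.Prime := ⟨hp⟩
      obtain ⟨e, he⟩ := prime_count.{w} A r hr p
      exact ⟨e, fun _ F _ _ _ => he F⟩
    · exact ⟨0, fun h => absurd h hp⟩
  choose ep hep using hprime
  refine ⟨e + ∑ q ∈ Finset.range (N + 1), ep q, N + 1, fun p m hp hm F _ hF => ?_⟩
  obtain ⟨hfin, hchar⟩ := charP_of_card hp hm hF
  have hcard_pos : 0 < p ^ m := pow_pos hp.pos m
  by_cases hpN : N + 1 ≤ p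
  · -- generic prime
    have hNF : ((N : ℕ) : F) ≠ 0 := by
      intro h0
      have h1 : p ∣ N := (CharP.cast_eq_zero_iff F p N).mp h0
      have := Nat.le_of_dvd hN h1
      omega
    obtain ⟨h1, h2⟩ := hgen F hNF
    refine ⟨h1, fun _ => ?_, ?_⟩
    · rcases h2 with h2 | ⟨hr1, h2⟩
      · exact Or.inl h2
      · refine Or.inr ⟨hr1, ?_⟩
        rw [hF] at h2
        exact h2.trans (Nat.mul_le_mul_right _ (Nat.le_add_right _ _))
    · rcases h2 with h2 | ⟨hr1, h2⟩
      · rw [h2]; exact Nat.zero_le _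
      · rw [hF] at h2
        calc Nat.card (A →+* F) ≤ e * (p ^ m) ^ (r - 1) := h2
          _ ≤ e * (p ^ m) ^ r :=
            Nat.mul_le_mul_left _ (Nat.pow_le_pow_right hcard_pos (Nat.sub_le _ _))
          _ ≤ (e + ∑ q ∈ Finset.range (N + 1), ep q) * (p ^ m) ^ r :=
            Nat.mul_le_mul_right _ (Nat.le_add_right _ _)
  · -- small prime
    obtain ⟨h1, h2⟩ := hep p hp F
    refine ⟨h1, fun h => absurd h hpN, ?_⟩
    rw [hF] at h2
    refine h2.trans (Nat.mul_le_mul_right _ ?_)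
    have hmem : p ∈ Finset.range (N + 1) := Finset.mem_range.mpr (by omega)
    exact (Finset.single_le_sum (f := ep) (fun _ _ => Nat.zero_le _) hmem).trans
      (Nat.le_add_left _ _)

end Groth.Agent.Helper19.PtCount
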