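import Mathlib

/-!
# Points of a quasi-compact scheme of finite type with values in a field: reduction to affine pieces
(helper19)
-/

set_option autoImplicit false

open CategoryTheory AlgebraicGeometry

namespace Groth.Agent.Helper19.PtCount

universe u

/-- The spectrum of a field has only one point. -/
theorem specField_eq (F : Type u) [Field F] (x y : Spec (CommRingCat.of F)) : x = y := by
  have : Subsingleton (PrimeSpectrum F) := inferInstance
  exact Subsingleton.elim (α := PrimeSpectrum F) x y

theorem exists_affine_data {X : Scheme.{u}} {R : CommRingCat.{u}} (f : X ⟶ Spec R)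
    [LocallyOfFiniteType f] [QuasiCompact f] (r : ℕ) (hr : topologicalKrullDim X ≤ r) :
    ∃ (ι : Type u) (_ : Finite ι) (A : ι → CommRingCat.{u}) (ρ : ∀ i, R ⟶ A i)
      (j : ∀ i, Spec (A i) ⟶ X),
      (∀ i, (ρ i).hom.FiniteType) ∧ (∀ i, ringKrullDim (A i) ≤ r) ∧
      (∀ i, j i ≫ f = Spec.map (ρ i)) ∧
      ∀ (F : Type u) [Field F] (g : Spec (CommRingCat.of F) ⟶ X),
        ∃ (i : ι) (ψ : A i ⟶ CommRingCat.of F), g = Spec.map ψ ≫ j i := by
  haveI : CompactSpace X := (quasiCompact_iff_compactSpace f).mp inferInstance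
  obtain ⟨s, hsfin, hs⟩ :=
    (isCompact_iff_finite_and_eq_biUnion_affineOpens (X := X) (U := ⊤)).mp
      (by simpa using isCompact_univ)
  refine ⟨s, hsfin.to_subtype, fun U => Γ(X, U.1.1), fun U => Spec.preimage (U.1.2.fromSpec ≫ f),
    fun U => U.1.2.fromSpec, ?_, ?_, ?_, ?_⟩
  · intro U
    have h1 : LocallyOfFiniteType (U.1.2.fromSpec ≫ f) := inferInstance
    rw [← Spec.map_preimage (U.1.2.fromSpec ≫ f)] at h1
    exact (HasRingHomProperty.Spec_iff (P := @LocallyOfFiniteType)).mp h1
  · intro U
    rw [← PrimeSpectrum.topologicalKrullDim_eq_ringKrullDim]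
    refine le_trans ?_ hr
    exact Topology.IsInducing.topologicalKrullDim_le
      (f := U.1.2.fromSpec) U.1.2.fromSpec.isOpenEmbedding.isInducing
  · intro U
    exact (Spec.map_preimage _).symm
  · intro F _ g
    let pt : Spec (CommRingCat.of F) := (⊥ : PrimeSpectrum F)
    have hmem : g pt ∈ (⊤ : X.Opens) := trivial
    rw [hs] at hmem
    simp only [TopologicalSpace.Opens.mem_iSup] at hmem
    obtain ⟨U, hUs, hU⟩ := hmem
    have hrange : Set.range g ⊆ Set.range U.2.fromSpec := by
      rintro _ ⟨y, rfl⟩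
      rw [U.2.range_fromSpec, specField_eq F y pt]
      exact hU
    refine ⟨⟨U, hUs⟩, Spec.preimage (IsOpenImmersion.lift U.2.fromSpec g hrange), ?_⟩
    rw [Spec.map_preimage, IsOpenImmersion.lift_fac]

end Groth.Agent.Helper19.PtCount
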