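import Mathlib
import Groth.Agent.Lib.Helper19.PtCount.Sch
import Groth.Agent.Lib.Helper19.PtCount.IntCount

/-!
# Point counts of schemes of finite type over `ℤ` or over a finite field, with finiteness
(helper19)
-/

set_option autoImplicit false

open CategoryTheory AlgebraicGeometry

namespace Groth.Agent.Helper19.PtCount

universe u

/-- Points of a scheme of finite type over `ℤ` of dimension `≤ r` with values in finite fields. -/
theorem sch_int_count {X : Scheme.{u}}
    (f : X ⟶ Spec (CommRingCat.of (ULift.{u} ℤ))) [LocallyOfFiniteType f] [QuasiCompact f] (r : ℕ)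
    (hr : topologicalKrullDim X ≤ r) :
    ∃ (c p₀ : ℕ), ∀ (p m : ℕ), p.Prime → 1 ≤ m → ∀ (F : Type u) [Field F],
      Nat.card F = p ^ m →
      Finite (Spec (CommRingCat.of F) ⟶ X) ∧
      (p₀ ≤ p → Nat.card (Spec (CommRingCat.of F) ⟶ X) = 0 ∨
        (1 ≤ r ∧ Nat.card (Spec (CommRingCat.of F) ⟶ X) ≤ c * (p ^ m) ^ (r - 1))) ∧
      Nat.card (Spec (CommRingCat.of F) ⟶ X) ≤ c * (p ^ m) ^ r := by
  obtain ⟨ι, hι, A, ρ, j, hft, hdim, hjf, hsurj⟩ := exists_affine_data f r hr
  have hFT : ∀ i, Algebra.FiniteType ℤ (A i) := by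
    intro i
    have h1 : ((ρ i).hom.comp (ULift.ringEquiv.symm : ℤ ≃+* ULift.{u} ℤ).toRingHom).FiniteType :=
      (hft i).comp (RingHom.FiniteType.of_surjective _
        (ULift.ringEquiv.symm : ℤ ≃+* ULift.{u} ℤ).surjective)
    have h2 : algebraMap ℤ (A i) =
        (ρ i).hom.comp (ULift.ringEquiv.symm : ℤ ≃+* ULift.{u} ℤ).toRingHom :=
      RingHom.ext_int _ _
    rw [← RingHom.finiteType_algebraMap, h2]
    exact h1
  have hcount : ∀ i, ∃ (c p₀ : ℕ), ∀ (p m : ℕ), p.Prime → 1 ≤ m → ∀ (F : Type u) [Field F],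
      Nat.card F = p ^ m →
        Finite (A i →+* F) ∧
        (p₀ ≤ p → Nat.card (A i →+* F) = 0 ∨
          (1 ≤ r ∧ Nat.card (A i →+* F) ≤ c * (p ^ m) ^ (r - 1))) ∧
        Nat.card (A i →+* F) ≤ c * (p ^ m) ^ r := by
    intro i
    haveI := hFT i
    exact int_count.{u} (A i) r (hdim i)
  choose c p₀ hc using hcount
  haveI := Fintype.ofFinite ι
  refine ⟨∑ i, c i, ∑ i, p₀ i, fun p m hp hm F _ hF => ?_⟩
  let Θ : (Σ i, (A i →+* F)) → (Spec (CommRingCat.of F) ⟶ X) :=
    fun q => Spec.map (CommRingCat.ofHom q.2) ≫ j q.1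
  have hΘ : Function.Surjective Θ := by
    intro g
    obtain ⟨i, ψ, rfl⟩ := hsurj F g
    exact ⟨⟨i, ψ.hom⟩, rfl⟩
  haveI : ∀ i, Finite (A i →+* F) := fun i => (hc i p m hp hm F hF).1
  have hfinHom : Finite (Spec (CommRingCat.of F) ⟶ X) := Finite.of_surjective Θ hΘ
  have h1 := Nat.card_le_card_of_surjective Θ hΘ
  have h2 : Nat.card (Σ i, (A i →+* F)) = ∑ i, Nat.card (A i →+* F) := Nat.card_sigma
  have hle : Nat.card (Spec (CommRingCat.of F) ⟶ X) ≤ ∑ i, Nat.card (A i →+* F) :=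
    h1.trans h2.le
  refine ⟨hfinHom, fun hp₀ => ?_, ?_⟩
  · by_cases hr1 : 1 ≤ r
    · refine Or.inr ⟨hr1, ?_⟩
      have h3 : ∀ i, Nat.card (A i →+* F) ≤ c i * (p ^ m) ^ (r - 1) := by
        intro i
        have hpi : p₀ i ≤ p :=
          (Finset.single_le_sum (f := p₀) (fun _ _ => Nat.zero_le _) (Finset.mem_univ i)).trans hp₀
        rcases (hc i p m hp hm F hF).2.1 hpi with h0 | ⟨_, h0⟩
        · rw [h0]; exact Nat.zero_le _
        · exact h0
      calc Nat.card (Spec (CommRingCat.of F) ⟶ X) ≤ ∑ i, Nat.card (A i →+* F) := hle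
        _ ≤ ∑ i, c i * (p ^ m) ^ (r - 1) := Finset.sum_le_sum fun i _ => h3 i
        _ = (∑ i, c i) * (p ^ m) ^ (r - 1) := by rw [Finset.sum_mul]
    · left
      have h3 : ∀ i, Nat.card (A i →+* F) = 0 := by
        intro i
        have hpi : p₀ i ≤ p :=
          (Finset.single_le_sum (f := p₀) (fun _ _ => Nat.zero_le _) (Finset.mem_univ i)).trans hp₀
        rcases (hc i p m hp hm F hF).2.1 hpi with h0 | ⟨h0, _⟩
        · exact h0
        · omega
      have : ∑ i, Nat.card (A i →+* F) = 0 := Finset.sum_eq_zero fun i _ => h3 i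
      omega
  · calc Nat.card (Spec (CommRingCat.of F) ⟶ X) ≤ ∑ i, Nat.card (A i →+* F) := hle
      _ ≤ ∑ i, c i * (p ^ m) ^ r := Finset.sum_le_sum fun i _ => (hc i p m hp hm F hF).2.2
      _ = (∑ i, c i) * (p ^ m) ^ r := by rw [Finset.sum_mul]

/-- There are at most `#k` ring homomorphisms from a finite field `k` to a finite field. -/
theorem card_ringHom_le (k F : Type*) [Field k] [Finite k] [Field F] [Finite F] :
    Finite (k →+* F) ∧ Nat.card (k →+* F) ≤ Nat.card k := by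
  classical
  have hfin : Finite (k →+* F) :=
    Finite.of_injective (fun f : k →+* F => (f : k → F)) DFunLike.coe_injective
  refine ⟨hfin, ?_⟩
  haveI := Fintype.ofFinite k
  haveI := Fintype.ofFinite (k →+* F)
  have hded := linearIndependent_monoidHom k F
  have hinj : Function.Injective (fun ψ : k →+* F => (ψ : k →* F)) := by
    intro ψ₁ ψ₂ h
    apply RingHom.ext
    intro a
    exact DFunLike.congr_fun h a
  have hli := hded.comp _ hinj
  have := hli.fintype_card_le_finrank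
  rw [Nat.card_eq_fintype_card, Nat.card_eq_fintype_card]
  simpa using this

/-- Points of a scheme of finite type over a finite field of dimension `≤ r` with values in
finite fields. -/
theorem sch_field_count {k : Type u} [Field k] [Finite k] {Y : Scheme.{u}}
    (f : Y ⟶ Spec (CommRingCat.of k)) [LocallyOfFiniteType f] [QuasiCompact f] (r : ℕ)
    (hr : topologicalKrullDim Y ≤ r) :
    ∃ c : ℕ, ∀ (F : Type u) [Field F] [Finite F],
      Finite (Spec (CommRingCat.of F) ⟶ Y) ∧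
      Nat.card (Spec (CommRingCat.of F) ⟶ Y) ≤ c * Nat.card F ^ r ∧
      (IsEmpty (k →+* F) → IsEmpty (Spec (CommRingCat.of F) ⟶ Y)) := by
  obtain ⟨ι, hι, A, ρ, j, hft, hdim, hjf, hsurj⟩ := exists_affine_data f r hr
  have hcount : ∀ i, ∃ e : ℕ, ∀ (F : Type u) [Field F] [Finite F] (φ : k →+* F),
      Finite {ψ : A i →+* F // ψ.comp (ρ i).hom = φ} ∧
      Nat.card {ψ : A i →+* F // ψ.comp (ρ i).hom = φ} ≤ e * Nat.card F ^ r := by
    intro i
    letI := (ρ i).hom.toAlgebra
    haveI : Algebra.FiniteType k (A i) := hft i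
    exact field_count k (A i) r (hdim i)
  choose e he using hcount
  haveI := Fintype.ofFinite ι
  refine ⟨∑ i, Nat.card k * e i, fun F _ _ => ?_⟩
  obtain ⟨hkF, hkFc⟩ := card_ringHom_le k F
  haveI := Fintype.ofFinite (k →+* F)
  -- all ring homs `A i → F`
  have hAi : ∀ i, Finite (A i →+* F) ∧ Nat.card (A i →+* F) ≤ Nat.card k * e i * Nat.card F ^ r := by
    intro i
    haveI : ∀ φ : k →+* F, Finite {ψ : A i →+* F // ψ.comp (ρ i).hom = φ} :=
      fun φ => (he i F φ).1
    let E : (Σ φ : k →+* F, {ψ : A i →+* F // ψ.comp (ρ i).hom = φ}) ≃ (A i →+* F) :=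
      Equiv.sigmaFiberEquiv (fun ψ : A i →+* F => ψ.comp (ρ i).hom)
    have hfin : Finite (A i →+* F) := Finite.of_equiv _ E
    refine ⟨hfin, ?_⟩
    rw [← Nat.card_congr E, Nat.card_sigma]
    calc ∑ φ : k →+* F, Nat.card {ψ : A i →+* F // ψ.comp (ρ i).hom = φ}
        ≤ ∑ _φ : k →+* F, e i * Nat.card F ^ r := Finset.sum_le_sum fun φ _ => (he i F φ).2
      _ = Nat.card (k →+* F) * (e i * Nat.card F ^ r) := by
          rw [Finset.sum_const, Finset.card_univ, smul_eq_mul,
            ← Nat.card_eq_fintype_card (α := k →+* F)]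
      _ ≤ Nat.card k * (e i * Nat.card F ^ r) := Nat.mul_le_mul_right _ hkFc
      _ = Nat.card k * e i * Nat.card F ^ r := by ring
  let Θ : (Σ i, (A i →+* F)) → (Spec (CommRingCat.of F) ⟶ Y) :=
    fun q => Spec.map (CommRingCat.ofHom q.2) ≫ j q.1
  have hΘ : Function.Surjective Θ := by
    intro g
    obtain ⟨i, ψ, rfl⟩ := hsurj F g
    exact ⟨⟨i, ψ.hom⟩, rfl⟩
  haveI : ∀ i, Finite (A i →+* F) := fun i => (hAi i).1
  have hfinHom : Finite (Spec (CommRingCat.of F) ⟶ Y) := Finite.of_surjective Θ hΘ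
  have h1 := Nat.card_le_card_of_surjective Θ hΘ
  have h2 : Nat.card (Σ i, (A i →+* F)) = ∑ i, Nat.card (A i →+* F) := Nat.card_sigma
  refine ⟨hfinHom, ?_, ?_⟩
  · calc Nat.card (Spec (CommRingCat.of F) ⟶ Y) ≤ ∑ i, Nat.card (A i →+* F) := h1.trans h2.le
      _ ≤ ∑ i, Nat.card k * e i * Nat.card F ^ r := Finset.sum_le_sum fun i _ => (hAi i).2
      _ = (∑ i, Nat.card k * e i) * Nat.card F ^ r := by rw [Finset.sum_mul]
  · intro hempty
    refine ⟨fun g => ?_⟩
    exact hempty.false (Spec.preimage (g ≫ f)).hom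

end Groth.Agent.Helper19.PtCount
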